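import Cfsg.Agent.Coprime.Generation
import Cfsg.Agent.Thompson.Replacement
import Mathlib

/-!
A `3'`-group on which an elementary group of order nine acts with the fixed points `Q₈`, `Q₈`, `⟨t⟩`, `⟨t⟩`
is the central product of order `32`.
-/

set_option autoImplicit false

namespace Cfsg.Agent.G2Amalgam.CoreCard

open Subgroup

universe u

variable {G : Type u} [Group G]

/-- The data. -/
structure Data (K Qa Qb : Subgroup G) (x y t : G) : Prop where
  hK : ¬ 3 ∣ Nat.card K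
  x3 : x ^ 3 = 1
  y3 : y ^ 3 = 1
  xy : Commute x y
  xK : ∀ k ∈ K, x * k * x⁻¹ ∈ K
  yK : ∀ k ∈ K, y * k * y⁻¹ ∈ K
  tx : Commute t x
  ty : Commute t y
  tK : ∀ k ∈ K, Commute t k
  ta : t ∈ Qa
  tb : t ∈ Qb
  tt : t * t = 1
  t1 : t ≠ 1
  leA : Qa ≤ K
  leB : Qb ≤ K
  cardA : Nat.card Qa = 8
  cardB : Nat.card Qb = 8
  fixA : ∀ k ∈ K, (Commute y k ↔ k ∈ Qa)
  fixB : ∀ k ∈ K, (Commute x k ↔ k ∈ Qb)
  fixD : ∀ k ∈ K, (Commute (x * y) k ∨ Commute (x⁻¹ * y) k) → k = 1 ∨ k = t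

variable {K Qa Qb : Subgroup G} {x y t : G}

theorem Data.symm (d : Data K Qa Qb x y t) : Data K Qb Qa y x t where
  hK := d.hK
  x3 := d.y3
  y3 := d.x3
  xy := d.xy.symm
  xK := d.yK
  yK := d.xK
  tx := d.ty
  ty := d.tx
  tK := d.tK
  ta := d.tb
  tb := d.ta
  tt := d.tt
  t1 := d.t1
  leA := d.leB
  leB := d.leA
  cardA := d.cardB
  cardB := d.cardA
  fixA := d.fixB
  fixB := d.fixA
  fixD k hk h := d.fixD k hk <| by
    rcases h with h | h
    · exact Or.inl (d.xy.eq ▸ h)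
    · refine Or.inr ?_
      have := h.inv_left
      rwa [mul_inv_rev, inv_inv] at this

theorem mem_T (d : Data K Qa Qb x y t) {k : G} : k ∈ zpowers t ↔ k = 1 ∨ k = t := by
  refine ⟨fun h => ?_, fun h => ?_⟩
  · obtain ⟨n, rfl⟩ := mem_zpowers_iff.1 h
    rcases Int.even_or_odd' n with ⟨m, rfl | rfl⟩
    · exact Or.inl (by rw [zpow_mul, zpow_two, d.tt, one_zpow])
    · exact Or.inr (by rw [zpow_add, zpow_mul, zpow_two, d.tt, one_zpow, one_mul, zpow_one])
  · rcases h with rfl | rfl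
    exacts [one_mem _, mem_zpowers _]

theorem inter (d : Data K Qa Qb x y t) {k : G} (ha : k ∈ Qa) (hb : k ∈ Qb) : k ∈ zpowers t :=
  (mem_T d).2 <| d.fixD k (d.leA ha) <| Or.inl <|
    ((d.fixB k (d.leA ha)).2 hb).mul_left ((d.fixA k (d.leA ha)).2 ha)

variable [Finite G]

/-- An `x`-invariant subgroup of `Qa` larger than `⟨t⟩` is everything. -/
theorem full (d : Data K Qa Qb x y t) {S : Subgroup G} (hS : S ≤ Qa) (hT : t ∈ S)
    (hx : ∀ s ∈ S, x * s * x⁻¹ ∈ S) {u : G} (hu : u ∈ S) (hun : u ∉ zpowers t) : S = Qa := by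
  refine eq_of_le_of_card_ge hS ?_
  rw [d.cardA]
  by_contra h
  push Not at h
  have hdvd : Nat.card S ∣ 8 := d.cardA ▸ Subgroup.card_dvd_of_le hS
  have hle : zpowers t ≤ S := zpowers_le.2 hT
  have ho : orderOf t = 2 := orderOf_eq_prime (by rw [pow_two]; exact d.tt) d.t1
  have h2 : 2 ∣ Nat.card S := by
    have := Subgroup.card_dvd_of_le hle
    rwa [Nat.card_zpowers, ho] at this
  have hne : zpowers t ≠ S := fun e => hun (e ▸ hu)
  have h4 : Nat.card S = 4 := by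
    have hlt : 2 < Nat.card S := by
      by_contra hle2
      refine hne (eq_of_le_of_card_ge hle ?_)
      rw [Nat.card_zpowers, ho]
      omega
    have key : ∀ n ∈ (8 : ℕ).divisors, 2 < n → n < 8 → n = 4 := by decide +kernel
    exact key _ (Nat.mem_divisors.2 ⟨hdvd, by norm_num⟩) hlt h
  have hidx : (zpowers t).relIndex S = 2 := by
    have := Subgroup.relIndex_mul_relIndex ⊥ (zpowers t) S bot_le hle
    rw [relIndex_bot_left, relIndex_bot_left, Nat.card_zpowers, ho, h4] at this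
    omega
  have hxu := hx u hu
  have hxn : x * u * x⁻¹ ∉ zpowers t := fun he => hun <| by
    rcases (mem_T d).1 he with e | e
    · rw [conj_eq_one_iff.1 e]; exact one_mem _
    · have : u = x⁻¹ * t * x := by rw [← e]; group
      rw [this, mul_assoc, d.tx.eq, inv_mul_cancel_left]; exact mem_zpowers _
  have hmem : u⁻¹ * (x * u * x⁻¹) ∈ zpowers t := by
    have := Subgroup.mul_mem_iff_of_index_two (G := S) (H := (zpowers t).subgroupOf S) hidx (a := ⟨u⁻¹, inv_mem hu⟩) (b := ⟨x * u * x⁻¹, hxu⟩)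
    rw [mem_subgroupOf, mem_subgroupOf, mem_subgroupOf, Subgroup.coe_mul] at this
    refine this.2 ?_
    simp [hun, hxn, inv_mem_iff]
  rcases (mem_T d).1 hmem with e | e
  · refine hun (inter d (hS hu) ((d.fixB u (d.leA (hS hu))).1 ?_))
    exact (mul_inv_eq_iff_eq_mul.1 (inv_mul_eq_one.1 e).symm : x * u = u * x)
  · have e1 : x * u * x⁻¹ = u * t := by rw [← e]; group
    have hxt : x * t * x⁻¹ = t := by rw [← d.tx.eq, mul_inv_cancel_right]
    have e3 : x * (x * (x * u * x⁻¹) * x⁻¹) * x⁻¹ = u := by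
      have : (x ^ 3) * u * (x ^ 3)⁻¹ = u := by rw [d.x3, one_mul, inv_one, mul_one]
      rw [pow_succ, pow_two] at this
      calc x * (x * (x * u * x⁻¹) * x⁻¹) * x⁻¹ = x * x * x * u * (x * x * x)⁻¹ := by group
        _ = u := this
    have e2 : ∀ w : G, x * (w * t) * x⁻¹ = x * w * x⁻¹ * t := fun w => by
      calc x * (w * t) * x⁻¹ = x * w * x⁻¹ * (x * t * x⁻¹) := by group
        _ = _ := by rw [hxt]
    rw [e1, e2, e1, mul_assoc u t t, d.tt, mul_one, e1] at e3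
    exact d.t1 (mul_eq_left.1 e3)

/-- The generation by fixed points. -/
theorem le_of_fix (d : Data K Qa Qb x y t) {U W : Subgroup G} (hUK : U ≤ K)
    (hxU : ∀ k ∈ U, x * k * x⁻¹ ∈ U) (hyU : ∀ k ∈ U, y * k * y⁻¹ ∈ U)
    (ha : U ⊓ Qa ≤ W) (hb : U ⊓ Qb ≤ W) : U ≤ W := by
  have hnorm : ∀ (g : G), g ^ 3 = 1 → (∀ k ∈ U, g * k * g⁻¹ ∈ U) → g ∈ normalizer (U : Set G) := by
    intro g hg h
    refine mem_normalizer_iff.2 fun k => ⟨h k, fun hk => ?_⟩
    have := h _ (h _ hk)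
    rwa [show g * (g * (g * k * g⁻¹) * g⁻¹) * g⁻¹ = g * g * g * k * (g * g * g)⁻¹ by group,
      show g * g * g = g ^ 3 by rw [pow_succ, pow_two], hg, one_mul, inv_one, mul_one] at this
  have h3K : Nat.Coprime 3 (Nat.card U) :=
    (Nat.prime_three.coprime_iff_not_dvd).2 fun h => d.hK (h.trans (Subgroup.card_dvd_of_le hUK))
  have hcl : ∀ g ∈ closure ({y, x} : Set G), g ^ 3 = 1 ∧ Commute g x ∧ Commute g y := by
    intro g hg
    induction hg using closure_induction with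
    | mem g hg =>
      rcases hg with rfl | rfl
      exacts [⟨d.y3, d.xy.symm, Commute.refl _⟩, ⟨d.x3, Commute.refl _, d.xy⟩]
    | one => exact ⟨one_pow 3, Commute.one_left _, Commute.one_left _⟩
    | mul a b ha' hb' iha ihb =>
      have hab : Commute a b := by
        have hcen : closure ({y, x} : Set G) ≤ centralizer ({a} : Set G) := by
          rw [closure_le]
          rintro w (rfl | rfl)
          exacts [mem_centralizer_singleton_iff.2 iha.2.2.eq.symm, mem_centralizer_singleton_iff.2 iha.2.1.eq.symm]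
        exact (mem_centralizer_singleton_iff.1 (hcen hb')).symm
      exact ⟨by rw [hab.mul_pow, iha.1, ihb.1, one_mul], iha.2.1.mul_left ihb.2.1, iha.2.2.mul_left ihb.2.2⟩
    | inv a _ iha => exact ⟨by rw [inv_pow, iha.1, inv_one], iha.2.1.inv_left, iha.2.2.inv_left⟩
  have hcop : (Nat.card (closure ({y, x} : Set G))).Coprime (Nat.card U) := by
    have : Fact (Nat.Prime 3) := ⟨Nat.prime_three⟩
    have hp : IsPGroup 3 (closure ({y, x} : Set G)) := fun g => ⟨1, Subtype.ext ((hcl g g.2).1)⟩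
    obtain ⟨n, hn⟩ := IsPGroup.iff_card.1 hp
    rw [hn]; exact h3K.pow_left n
  refine Coprime.le_of_centralizers_le (a := y) (b := x) d.xy.symm (hnorm y d.y3 hyU) (hnorm x d.x3 hxU)
    Nat.prime_three (by rw [d.y3]; exact one_mem _) (by rw [d.x3]; exact one_mem _) h3K hcop ?_ fun k => ?_
  · rintro g ⟨hg, hc⟩
    exact ha ⟨hg, (d.fixA g (hUK hg)).1 (Commute.symm (mem_centralizer_singleton_iff.1 hc))⟩
  · rintro g ⟨hg, hc⟩
    have hc' : Commute (y ^ k * x) g := Commute.symm (mem_centralizer_singleton_iff.1 hc)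
    have hk : y ^ k = y ^ (k % 3) := by
      conv_lhs => rw [← Nat.mod_add_div k 3, pow_add, pow_mul, d.y3, one_pow, mul_one]
    rw [hk] at hc'
    have hT : ∀ g ∈ U, g = 1 ∨ g = t → g ∈ W := fun g hg h =>
      ha ⟨hg, by rcases h with rfl | rfl; exacts [one_mem _, d.ta]⟩
    rcases (show k % 3 = 0 ∨ k % 3 = 1 ∨ k % 3 = 2 by omega) with h | h | h <;> rw [h] at hc'
    · rw [pow_zero, one_mul] at hc'
      exact hb ⟨hg, (d.fixB g (hUK hg)).1 hc'⟩
    · rw [pow_one, d.xy.symm.eq] at hc'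
      exact hT g hg (d.fixD g (hUK hg) (Or.inl hc'))
    · refine hT g hg (d.fixD g (hUK hg) (Or.inr ?_))
      have hy2 : y ^ 2 = y⁻¹ := eq_inv_of_mul_eq_one_left (by rw [← pow_succ, d.y3])
      rw [hy2] at hc'
      have := hc'.inv_left
      rwa [mul_inv_rev, inv_inv] at this

theorem two_group (d : Data K Qa Qb x y t) : IsPGroup 2 K := by
  rcases Nat.eq_zero_or_pos (Nat.card K) with h | h
  · exact absurd h Nat.card_pos.ne'
  refine IsPGroup.of_card (n := (Nat.card K).primeFactorsList.length) ?_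
  refine Nat.eq_prime_pow_of_unique_prime_dvd Nat.card_pos.ne' fun {q} hq hqK => ?_
  by_contra hq2
  have := Fact.mk hq
  have hnorm : closure ({y, x} : Set G) ≤ normalizer (K : Set G) := by
    rw [closure_le]
    have aux : ∀ g : G, g ^ 3 = 1 → (∀ k ∈ K, g * k * g⁻¹ ∈ K) → g ∈ normalizer (K : Set G) := by
      intro g hg h
      refine mem_normalizer_iff.2 fun k => ⟨h k, fun hk => ?_⟩
      have := h _ (h _ hk)
      rwa [show g * (g * (g * k * g⁻¹) * g⁻¹) * g⁻¹ = g * g * g * k * (g * g * g)⁻¹ by group,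
        show g * g * g = g ^ 3 by rw [pow_succ, pow_two], hg, one_mul, inv_one, mul_one] at this
    rintro w (rfl | rfl)
    exacts [aux _ d.y3 d.yK, aux _ d.x3 d.xK]
  have hab : IsMulCommutative (closure ({y, x} : Set G)) := by
    refine Subgroup.isMulCommutative_closure ?_
    rintro a (rfl | rfl) b (rfl | rfl) <;> first | exact rfl | exact d.xy.eq | exact d.xy.eq.symm
  have hsol : Group.IsSolvable (closure ({y, x} : Set G)) :=
    Group.isSolvable_of_comm fun a b => IsMulCommutative.is_comm.comm a b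
  have hcop : (Nat.card (closure ({y, x} : Set G))).Coprime (Nat.card K) := by
    have : Fact (Nat.Prime 3) := ⟨Nat.prime_three⟩
    have hp : IsPGroup 3 (closure ({y, x} : Set G)) := by
      rintro ⟨g, hg⟩
      refine ⟨1, Subtype.ext ?_⟩
      show g ^ 3 = 1
      induction hg using closure_induction with
      | mem g hg => rcases hg with rfl | rfl; exacts [d.y3, d.x3]
      | one => exact one_pow 3
      | mul a b ha hb iha ihb =>
        have hab' : Commute a b := congrArg Subtype.val (hab.is_comm.comm ⟨a, ha⟩ ⟨b, hb⟩)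
        rw [hab'.mul_pow, iha, ihb, one_mul]
      | inv a _ iha => rw [inv_pow, iha, inv_one]
    obtain ⟨n, hn⟩ := IsPGroup.iff_card.1 hp
    rw [hn]; exact ((Nat.prime_three.coprime_iff_not_dvd).2 d.hK).pow_left n
  obtain ⟨P, hP⟩ := Coprime.exists_invariant_sylow hnorm hcop (Or.inl hsol) q
  obtain ⟨R, hR⟩ : ∃ R, (P : Subgroup K).map K.subtype = R := ⟨_, rfl⟩
  rw [hR] at hP
  have hRq : IsPGroup q R := hR ▸ P.2.map _
  have hRK : R ≤ K := hR ▸ map_subtype_le _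
  have hbot : ∀ Q : Subgroup G, Nat.card Q = 8 → R ⊓ Q ≤ ⊥ := fun Q hQ g hg => by
    obtain ⟨n, hn⟩ := hRq ⟨g, hg.1⟩
    have h1 : orderOf g ∣ q ^ n := orderOf_dvd_of_pow_eq_one (congrArg Subtype.val hn)
    have h2 : orderOf g ∣ 2 ^ 3 := by
      have := Subgroup.orderOf_dvd_natCard Q hg.2
      rwa [hQ] at this
    rw [mem_bot, ← orderOf_eq_one_iff]
    exact Nat.eq_one_of_dvd_coprimes (((Nat.coprime_primes hq Nat.prime_two).2 hq2).pow n 3) h1 h2
  have hR1 : R ≤ ⊥ := le_of_fix d hRK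
    (fun k hk => (mem_normalizer_iff.1 (hP (subset_closure (Or.inr rfl))) k).1 hk)
    (fun k hk => (mem_normalizer_iff.1 (hP (subset_closure (Or.inl rfl))) k).1 hk) (hbot _ d.cardA) (hbot _ d.cardB)
  have hPbot : (P : Subgroup K) = ⊥ := by
    rw [← Subgroup.map_eq_bot_iff_of_injective _ K.subtype_injective, hR]; exact le_bot_iff.1 hR1
  exact absurd (hPbot ▸ P.card_eq_multiplicity) (by
    rw [Subgroup.card_bot]
    exact (Nat.one_lt_pow (Nat.Prime.factorization_pos_of_dvd hq Nat.card_pos.ne' hqK).ne' hq.one_lt).ne)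

/-- One of the two quaternion groups commutes with everything modulo `⟨t⟩`. -/
theorem half (d : Data K Qa Qb x y t) :
    (∀ a ∈ Qa, ∀ g ∈ K, a * g * a⁻¹ * g⁻¹ ∈ zpowers t) ∨
      ∀ b ∈ Qb, ∀ g ∈ K, b * g * b⁻¹ * g⁻¹ ∈ zpowers t := by
  classical
  let U : Subgroup G :=
    { carrier := {k | k ∈ K ∧ ∀ g ∈ K, k * g * k⁻¹ * g⁻¹ ∈ zpowers t}
      one_mem' := ⟨one_mem _, fun g _ => by simp⟩
      mul_mem' := fun {a b} ha hb => ⟨mul_mem ha.1 hb.1, fun g hg => by
        have h1 := ha.2 (b * g * b⁻¹) (mul_mem (mul_mem hb.1 hg) (inv_mem hb.1))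
        rw [show a * b * g * (a * b)⁻¹ * g⁻¹ =
          a * (b * g * b⁻¹) * a⁻¹ * (b * g * b⁻¹)⁻¹ * (b * g * b⁻¹ * g⁻¹) by group]
        exact mul_mem h1 (hb.2 g hg)⟩
      inv_mem' := fun {a} ha => ⟨inv_mem ha.1, fun g hg => by
        have h1 := ha.2 (a⁻¹ * g * a) (mul_mem (mul_mem (inv_mem ha.1) hg) ha.1)
        rw [show a * (a⁻¹ * g * a) * a⁻¹ * (a⁻¹ * g * a)⁻¹ = (a⁻¹ * g * a⁻¹⁻¹ * g⁻¹)⁻¹ by group] at h1
        exact (Subgroup.inv_mem_iff _).1 h1⟩ }
  have hUinv : ∀ w : G, Commute t w → (∀ k ∈ K, w * k * w⁻¹ ∈ K) → (∀ k ∈ K, w⁻¹ * k * w ∈ K) →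
      ∀ k ∈ U, w * k * w⁻¹ ∈ U := fun w hw hwK hwK' k hk => ⟨hwK k hk.1, fun g hg => by
    have h1 := hk.2 _ (hwK' g hg)
    rw [show w * k * w⁻¹ * g * (w * k * w⁻¹)⁻¹ * g⁻¹ =
      w * (k * (w⁻¹ * g * w) * k⁻¹ * (w⁻¹ * g * w)⁻¹) * w⁻¹ by group]
    rcases (mem_T d).1 h1 with e | e <;> rw [e]
    · simp
    · rw [← hw.eq, mul_inv_cancel_right]; exact mem_zpowers _⟩
  have hback : ∀ w : G, w ^ 3 = 1 → (∀ k ∈ K, w * k * w⁻¹ ∈ K) → ∀ k ∈ K, w⁻¹ * k * w ∈ K := by
    intro w hw h k hk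
    have h2 := h _ (h k hk)
    rwa [show w⁻¹ * k * w = w ^ 2 * k * (w ^ 2)⁻¹ by
      rw [show w ^ 2 = w⁻¹ from eq_inv_of_mul_eq_one_left (by rw [← pow_succ, hw]), inv_inv],
      show w ^ 2 * k * (w ^ 2)⁻¹ = w * (w * k * w⁻¹) * w⁻¹ by rw [pow_two]; group]
  have hxU := hUinv x d.tx d.xK (hback x d.x3 d.xK)
  have hyU := hUinv y d.ty d.yK (hback y d.y3 d.yK)
  have hUK : U ≤ K := fun k hk => hk.1
  have htU : t ∈ U := ⟨d.leA d.ta, fun g hg => by rw [(d.tK g hg).eq, mul_inv_cancel_right, mul_inv_cancel]; exact one_mem _⟩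
  by_cases hA : ∃ u ∈ U ⊓ Qa, u ∉ zpowers t
  · obtain ⟨u, hu, hun⟩ := hA
    have e := full d (S := U ⊓ Qa) inf_le_right ⟨htU, d.ta⟩ (fun s hs => ⟨hxU s hs.1, by
      refine (d.fixA _ (d.xK s (d.leA hs.2))).1 ?_
      have hys : y * s * y⁻¹ = s := by rw [((d.fixA s (d.leA hs.2)).2 hs.2).eq, mul_inv_cancel_right]
      refine (mul_inv_eq_iff_eq_mul.1 ?_ : y * (x * s * x⁻¹) = x * s * x⁻¹ * y)
      calc y * (x * s * x⁻¹) * y⁻¹ = (y * x) * s * (y * x)⁻¹ := by group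
        _ = x * (y * s * y⁻¹) * x⁻¹ := by rw [← d.xy.eq]; group
        _ = x * s * x⁻¹ := by rw [hys]⟩) hu hun
    exact Or.inl fun a ha => (e.symm.le ha).1.2
  by_cases hB : ∃ u ∈ U ⊓ Qb, u ∉ zpowers t
  · obtain ⟨u, hu, hun⟩ := hB
    have e := full d.symm (S := U ⊓ Qb) inf_le_right ⟨htU, d.tb⟩ (fun s hs => ⟨hyU s hs.1, by
      refine (d.fixB _ (d.yK s (d.leB hs.2))).1 ?_
      have hxs : x * s * x⁻¹ = s := by rw [((d.fixB s (d.leB hs.2)).2 hs.2).eq, mul_inv_cancel_right]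
      refine (mul_inv_eq_iff_eq_mul.1 ?_ : x * (y * s * y⁻¹) = y * s * y⁻¹ * x)
      calc x * (y * s * y⁻¹) * x⁻¹ = (x * y) * s * (x * y)⁻¹ := by group
        _ = y * (x * s * x⁻¹) * y⁻¹ := by rw [d.xy.eq]; group
        _ = y * s * y⁻¹ := by rw [hxs]⟩) hu hun
    exact Or.inr fun b hb => (e.symm.le hb).1.2
  exfalso
  push Not at hA hB
  have hUT : U ≤ zpowers t := le_of_fix d hUK hxU hyU (fun g hg => hA g hg) (fun g hg => hB g hg)
  let T : Subgroup K := (zpowers t).subgroupOf K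
  have hTn : T.Normal := ⟨fun n hn g => by
    rw [mem_subgroupOf] at hn ⊢
    simp only [Subgroup.coe_mul, InvMemClass.coe_inv]
    obtain ⟨m, hm⟩ := mem_zpowers_iff.1 hn
    rw [← hm, ← ((d.tK g g.2).zpow_left m).eq, mul_inv_cancel_right]
    exact zpow_mem (mem_zpowers t) m⟩
  have : Fact (Nat.Prime 2) := ⟨Nat.prime_two⟩
  have hne : Nontrivial (K ⧸ T) := by
    by_contra hne
    rw [not_nontrivial_iff_subsingleton] at hne
    have hKT : ∀ k ∈ K, k ∈ zpowers t := fun k hk =>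
      (QuotientGroup.eq_one_iff (N := T) ⟨k, hk⟩).1 (Subsingleton.elim _ _)
    have := Subgroup.card_le_of_le (fun a ha => hKT a (d.leA ha) : Qa ≤ zpowers t)
    rw [d.cardA, Nat.card_zpowers, orderOf_eq_prime (by rw [pow_two]; exact d.tt) d.t1] at this
    omega
  have := ((two_group d).to_quotient T).center_nontrivial
  obtain ⟨⟨q, hq⟩, hq1⟩ := exists_ne (1 : Subgroup.center (K ⧸ T))
  obtain ⟨⟨k, hk⟩, rfl⟩ := QuotientGroup.mk_surjective q
  refine hq1 (Subtype.ext ((QuotientGroup.eq_one_iff _).2 ?_))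
  refine mem_subgroupOf.2 (hUT ⟨hk, fun g hg => ?_⟩)
  have hc := Subgroup.mem_center_iff.1 hq (QuotientGroup.mk ⟨g, hg⟩)
  rw [← QuotientGroup.mk_mul, ← QuotientGroup.mk_mul, QuotientGroup.eq, mem_subgroupOf] at hc
  simp only [Subgroup.coe_mul, InvMemClass.coe_inv] at hc
  have := inv_mem hc
  rcases (mem_T d).1 this with e | e
  · have : k * g = g * k := by
      calc k * g = (g * k) * ((g * k)⁻¹ * (k * g))⁻¹⁻¹ := by group
        _ = g * k := by rw [e, inv_one, mul_one]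
    rw [this, mul_inv_cancel_right, mul_inv_cancel]; exact one_mem _
  · refine (mem_T d).2 (Or.inr ?_)
    have hkg : k * g = t * (g * k) := by
      calc k * g = (g * k) * ((g * k)⁻¹ * (k * g))⁻¹⁻¹ := by group
        _ = _ := by
          rw [e, inv_eq_of_mul_eq_one_right d.tt]
          exact ((d.tK _ (mul_mem hg hk)).eq).symm
    rw [hkg]; group

/-- The two quaternion groups commute and the group has order `32`. -/
theorem commute_and_card (d : Data K Qa Qb x y t) :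
    (∀ a ∈ Qa, ∀ b ∈ Qb, Commute a b) ∧ Nat.card K = 32 := by
  have hcT : ∀ a ∈ Qa, ∀ b ∈ Qb, a * b * a⁻¹ * b⁻¹ ∈ zpowers t := by
    intro a ha b hb
    rcases half d with h | h
    · exact h a ha b (d.leB hb)
    · have := inv_mem (h b hb a (d.leA ha))
      rwa [show (b * a * b⁻¹ * a⁻¹)⁻¹ = a * b * a⁻¹ * b⁻¹ by group] at this
  have hcomm : ∀ a ∈ Qa, ∀ b ∈ Qb, Commute a b := by
    intro a ha
    have hbil : ∀ b ∈ Qb, ∀ b' ∈ Qb, a * (b * b') * a⁻¹ * (b * b')⁻¹ =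
        (a * b * a⁻¹ * b⁻¹) * (a * b' * a⁻¹ * b'⁻¹) := by
      intro b hb b' hb'
      have hcen : Commute (a * b' * a⁻¹ * b'⁻¹) b := by
        obtain ⟨m, hm⟩ := mem_zpowers_iff.1 (hcT a ha b' hb')
        exact hm ▸ ((d.tK b (d.leB hb)).zpow_left m)
      calc a * (b * b') * a⁻¹ * (b * b')⁻¹ = a * b * a⁻¹ * ((a * b' * a⁻¹ * b'⁻¹) * b⁻¹) := by group
        _ = _ := by rw [hcen.inv_right.eq]; group
    have hy : ∀ b ∈ Qb, y * b * y⁻¹ ∈ Qb := fun b hb => (d.fixB _ (d.yK b (d.leB hb))).1 <| by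
      have hxb : x * b * x⁻¹ = b := by rw [((d.fixB b (d.leB hb)).2 hb).eq, mul_inv_cancel_right]
      refine (mul_inv_eq_iff_eq_mul.1 ?_ : x * (y * b * y⁻¹) = y * b * y⁻¹ * x)
      calc x * (y * b * y⁻¹) * x⁻¹ = (x * y) * b * (x * y)⁻¹ := by group
        _ = y * (x * b * x⁻¹) * y⁻¹ := by rw [d.xy.eq]; group
        _ = y * b * y⁻¹ := by rw [hxb]
    have hya : y * a * y⁻¹ = a := by rw [((d.fixA a (d.leA ha)).2 ha).eq, mul_inv_cancel_right]
    let S : Subgroup G := Qb ⊓ centralizer {a}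
    have hw : ∀ b ∈ Qb, b⁻¹ * (y * b * y⁻¹) ∈ S := by
      intro b hb
      refine ⟨Qb.mul_mem (Qb.inv_mem hb) (hy b hb), mem_centralizer_singleton_iff.2 ?_⟩
      have hT := hcT a ha b hb
      have hyy : a * (y * b * y⁻¹) * a⁻¹ * (y * b * y⁻¹)⁻¹ = a * b * a⁻¹ * b⁻¹ := by
        calc a * (y * b * y⁻¹) * a⁻¹ * (y * b * y⁻¹)⁻¹
            = (y * a * y⁻¹) * (y * b * y⁻¹) * (y * a * y⁻¹)⁻¹ * (y * b * y⁻¹)⁻¹ := by rw [hya]
          _ = y * (a * b * a⁻¹ * b⁻¹) * y⁻¹ := by group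
          _ = _ := by
            obtain ⟨m, hm⟩ := mem_zpowers_iff.1 hT
            rw [← hm, ← (d.ty.zpow_left m).eq, mul_inv_cancel_right]
      have h1 := hbil b hb (b⁻¹ * (y * b * y⁻¹)) (mul_mem (inv_mem hb) (hy b hb))
      rw [mul_inv_cancel_left, hyy, left_eq_mul] at h1
      exact (mul_inv_eq_iff_eq_mul.1 (mul_inv_eq_one.1 h1)).symm
    by_cases hQ : ∀ b ∈ Qb, b⁻¹ * (y * b * y⁻¹) ∈ zpowers t
    · exfalso
      have hfix : ∀ b ∈ Qb, b ∈ zpowers t := by
        intro b hb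
        refine inter d ((d.fixA b (d.leB hb)).1 ?_) hb
        rcases (mem_T d).1 (hQ b hb) with e | e
        · exact (mul_inv_eq_iff_eq_mul.1 (inv_mul_eq_one.1 e).symm : y * b = b * y)
        · exfalso
          have e1 : y * b * y⁻¹ = b * t := by rw [← e]; group
          have hyt : y * t * y⁻¹ = t := by rw [← d.ty.eq, mul_inv_cancel_right]
          have e2 : ∀ w : G, y * (w * t) * y⁻¹ = y * w * y⁻¹ * t := fun w => by
            calc y * (w * t) * y⁻¹ = y * w * y⁻¹ * (y * t * y⁻¹) := by group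
              _ = _ := by rw [hyt]
          have e3 : y * (y * (y * b * y⁻¹) * y⁻¹) * y⁻¹ = b := by
            calc y * (y * (y * b * y⁻¹) * y⁻¹) * y⁻¹ = y * y * y * b * (y * y * y)⁻¹ := by group
              _ = b := by rw [show y * y * y = y ^ 3 by rw [pow_succ, pow_two], d.y3, one_mul, inv_one, mul_one]
          rw [e1, e2, e1, mul_assoc b t t, d.tt, mul_one, e1] at e3
          exact d.t1 (mul_eq_left.1 e3)
      have := Subgroup.card_le_of_le (hfix : Qb ≤ zpowers t)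
      rw [d.cardB, Nat.card_zpowers, orderOf_eq_prime (by rw [pow_two]; exact d.tt) d.t1] at this
      omega
    push Not at hQ
    obtain ⟨b₀, hb₀, hn⟩ := hQ
    have e := full d.symm (S := S) inf_le_left
      ⟨d.tb, mem_centralizer_singleton_iff.2 (d.tK a (d.leA ha)).eq⟩
      (fun s hs => ⟨hy s hs.1, mem_centralizer_singleton_iff.2 (by
        have hsa : s * a = a * s := mem_centralizer_singleton_iff.1 hs.2
        calc y * s * y⁻¹ * a = y * s * y⁻¹ * (y * a * y⁻¹) := by rw [hya]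
          _ = y * (s * a) * y⁻¹ := by group
          _ = y * a * y⁻¹ * (y * s * y⁻¹) := by rw [hsa]; group
          _ = a * (y * s * y⁻¹) := by rw [hya])⟩) (hw b₀ hb₀) hn
    exact fun b hb => Commute.symm (mem_centralizer_singleton_iff.1 (e.symm.le hb).2)
  refine ⟨hcomm, ?_⟩
  have hle : K ≤ Qa ⊔ Qb :=
    le_of_fix d le_rfl d.xK d.yK (inf_le_right.trans le_sup_left) (inf_le_right.trans le_sup_right)
  have hK : K = Qa ⊔ Qb := le_antisymm hle (sup_le d.leA d.leB)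
  have hI : Qa ⊓ Qb = zpowers t :=
    le_antisymm (fun g hg => inter d hg.1 hg.2) (zpowers_le.2 ⟨d.ta, d.tb⟩)
  have := Thompson.card_sup_mul_card_inf_of_comm (X := Qa) (Y := Qb)
    (fun a ha => mem_centralizer_iff.2 fun b hb => (hcomm a ha b hb).eq.symm)
  rw [← hK, hI, d.cardA, d.cardB, Nat.card_zpowers, orderOf_eq_prime (by rw [pow_two]; exact d.tt) d.t1] at this
  omega

end Cfsg.Agent.G2Amalgam.CoreCard
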