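import Mathlib
import Cfsg.Prelude.Def_Steinberg
import Cfsg.Prelude.Def_ChevG2
import Cfsg.Prelude.Def_G2

/-!
`G2(3)` from its amalgam without a generation hypothesis: the interface between the stages
(see `notes/S3393-cut.md`).

Roots are indexed as in `chevG2`: `7 = a` (short), `6 = b` (long), `8 = a+b`, `9 = 2a+b`, `10 = 3a+b`,
`11 = 3a+2b`, and `11 - r = -r`.
-/

set_option autoImplicit false

namespace Cfsg.Agent.G2Amalgam

open Subgroup Matrix

/-- Coordinates of the invariant complement to `D` in `Z(Q)`. -/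
abbrev V2 : Type := Fin 2 → ZMod 3

/-- Two by two matrices. -/
abbrev M2 : Type := Matrix (Fin 2) (Fin 2) (ZMod 3)

/-- The fixed vector of the Sylow subgroup. -/
def e₀ : V2 := ![1, 0]

/-- The other basis vector. -/
def e₁ : V2 := ![0, 1]

variable {G : Type*} [Group G]

/-- One parabolic: `A / Q ≅ GL(2,3)` acting naturally on `σ` and by the determinant on `δ`, the centre of
`Q` is `⟨δ⟩ × σ`, the commutators lie in `⟨δ⟩`, and the involution `t` lies over `-1`. -/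
structure Side (A Q : Subgroup G) (ψ : ↥A →* GL (Fin 2) (ZMod 3)) (σ : V2 → G) (δ t : G) : Prop where
  le : Q ≤ A
  cardQ : Nat.card Q = 243
  surj : Function.Surjective ψ
  ker : ∀ a : ↥A, ψ a = 1 ↔ (a : G) ∈ Q
  nor : normalizer (zpowers δ : Set G) = A
  σ_add : ∀ v w, σ (v + w) = σ v * σ w
  σ_inj : Function.Injective σ
  σ_mem : ∀ v, σ v ∈ Q
  σ_comm : ∀ v, ∀ q ∈ Q, Commute (σ v) q
  δ_mem : δ ∈ Q
  δ_comm : ∀ q ∈ Q, Commute δ q
  δ_cube : δ ^ 3 = 1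
  δ_ne : ∀ v, σ v ≠ δ
  act : ∀ (a : ↥A) (v : V2), (a : G) * σ v * (a : G)⁻¹ = σ ((ψ a : M2) *ᵥ v)
  act_δ : ∀ a : ↥A, (a : G) * δ * (a : G)⁻¹ = if (ψ a : M2).det = 1 then δ else δ⁻¹
  comm : ∀ x ∈ Q, ∀ y ∈ Q, x * y * x⁻¹ * y⁻¹ ∈ zpowers δ
  center : ∀ q ∈ Q, (∀ y ∈ Q, Commute q y) → ∃ (i : ℕ) (v : V2), q = δ ^ i * σ v
  tA : t ∈ A
  tψ : (ψ ⟨t, tA⟩ : M2) = -1
  tt : t * t = 1
  t_inv : ∀ q ∈ Q, ∀ y ∈ Q, Commute (t * q * t * q) y

/-- The torus element of the other side, the Weyl element, and the normalisation of the short or long simple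
root element `n'⁻¹ σ(e₁) n'`. -/
structure Link (A : Subgroup G) (ψ : ↥A →* GL (Fin 2) (ZMod 3)) (σ : V2 → G) (t t' n n' : G) : Prop where
  t'A : t' ∈ A
  t'ψ : (ψ ⟨t', t'A⟩ : M2) = !![1, 0; 0, -1]
  t't' : t' * t' = 1
  tcomm : Commute t t'
  nA : n ∈ A
  nψ : (ψ ⟨n, nA⟩ : M2) = !![0, 1; -1, 0]
  nt' : n * t' * n⁻¹ = t * t'
  yA : n'⁻¹ * σ e₁ * n' ∈ A
  yψ : (ψ ⟨n'⁻¹ * σ e₁ * n', yA⟩ : M2) = !![1, 1; 0, 1]

/-- The amalgam in normalised coordinates. -/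
structure Base (G : Type*) [Group G] where
  /-- the first parabolic -/
  A₁ : Subgroup G
  /-- the second parabolic -/
  A₂ : Subgroup G
  /-- its 3-core -/
  Q₁ : Subgroup G
  /-- its 3-core -/
  Q₂ : Subgroup G
  /-- the action on the first plane -/
  ψ₁ : ↥A₁ →* GL (Fin 2) (ZMod 3)
  /-- the action on the second plane -/
  ψ₂ : ↥A₂ →* GL (Fin 2) (ZMod 3)
  /-- the first plane -/
  σ₁ : V2 → G
  /-- the second plane -/
  σ₂ : V2 → G
  /-- the central involution of the first parabolic -/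
  t₁ : G
  /-- the central involution of the second parabolic -/
  t₂ : G
  /-- the first Weyl element -/
  n₁ : G
  /-- the second Weyl element -/
  n₂ : G
  side₁ : Side A₁ Q₁ ψ₁ σ₁ (σ₂ e₀) t₁
  side₂ : Side A₂ Q₂ ψ₂ σ₂ (σ₁ e₀) t₂
  link₁ : Link A₁ ψ₁ σ₁ t₁ t₂ n₁ n₂
  link₂ : Link A₂ ψ₂ σ₂ t₂ t₁ n₂ n₁
  nconj : ∀ g : G, A₁.map (MulAut.conj g).toMonoidHom ≠ A₂

namespace Base

variable (B : Base G)

/-- The root element of `a`. -/
def ya : G := B.n₂⁻¹ * B.σ₁ e₁ * B.n₂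

/-- The root element of `b`. -/
def yb : G := B.n₁⁻¹ * B.σ₂ e₁ * B.n₁

/-- The twelve root elements. -/
def Y : Fin 12 → G :=
  let n := B.n₁
  let m := B.n₂
  let y5 := m * B.yb * m⁻¹
  let y4 := n * B.ya * n⁻¹
  let y1 := n * y5 * n⁻¹
  let y3 := m * y4 * m⁻¹
  ![m * y1 * m⁻¹, y1, n * y3 * n⁻¹, y3, y4, y5, B.yb, B.ya, B.σ₁ e₁, B.σ₁ e₀, B.σ₂ e₁, B.σ₂ e₀]

end Base

/-- The images of the root elements under the two Weyl elements: index and whether it is inverted. -/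
def nTab : Bool → List (Fin 12 × Bool)
  | true => [(0, false), (5, true), (3, true), (2, false), (7, false), (1, false), (10, false), (4, false),
      (9, false), (8, true), (6, true), (11, false)]
  | false => [(1, true), (0, false), (2, false), (4, true), (3, false), (6, false), (5, false), (8, false),
      (7, true), (9, false), (11, false), (10, true)]

/-- An element or its inverse. -/
def sgn (b : Bool) (g : G) : G := if b then g⁻¹ else g

/-- The Weyl element of `a` for `true`, of `b` for `false`. -/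
def wey (Y : Fin 12 → G) : Bool → G
  | true => Y 7 * Y 4 * Y 7
  | false => Y 6 * Y 5 * Y 6

/-- What the presentation needs. -/
structure Roots (Y : Fin 12 → G) : Prop where
  cube : ∀ r, Y r ^ 3 = 1
  conj : ∀ s r, wey Y s * Y r * (wey Y s)⁻¹ =
    sgn ((nTab s).getD r.val (0, false)).2 (Y ((nTab s).getD r.val (0, false)).1)
  wey_four : ∀ s, wey Y s ^ 4 = 1
  c78 : Y 7 * Y 8 * (Y 7)⁻¹ * (Y 8)⁻¹ = Y 9
  c610 : Y 6 * Y 10 * (Y 6)⁻¹ * (Y 10)⁻¹ = Y 11
  c76 : Y 7 * Y 6 * (Y 7)⁻¹ * (Y 6)⁻¹ = (Y 8)⁻¹ * Y 9 * Y 10 * (Y 11)⁻¹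
  abelian : ∀ r s : Fin 12, 8 ≤ r.val → 8 ≤ s.val → Commute (Y r) (Y s)
  c7 : ∀ r : Fin 12, 9 ≤ r.val → Commute (Y 7) (Y r)
  c6 : ∀ r : Fin 12, r = 8 ∨ r = 9 ∨ r = 11 → Commute (Y 6) (Y r)

/-- The Steinberg group over the field with three elements. -/
abbrev St : Type := Cfsg.Lie.chevG2.SteinbergGroup (ZMod 3)

/-- The image of a generator: negative roots are inverted. -/
def img (Y : Fin 12 → G) (r : Fin 12) : G := sgn (decide (r.val < 6)) (Y r)


end Cfsg.Agent.G2Amalgam
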