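import Cfsg.Agent.G2Amalgam.Model

/-!
The roots and the order of one involution centraliser determine the group.
-/

set_option autoImplicit false

namespace Cfsg.Agent.G2Amalgam

open Subgroup Cfsg.Lie

universe u

/-- The root elements of the Steinberg group. -/
def rootSt (r : Fin 12) : St := sgn (decide (r.val < 6)) (chevG2.stGen (ZMod 3) r.val 1)

theorem map_rootSt {M : Type*} [Group M] {Y : Fin 12 → M} {φ : St →* M}
    (hφ : ∀ r : Fin 12, φ (chevG2.stGen (ZMod 3) r.val 1) = img Y r) (r : Fin 12) : φ (rootSt r) = Y r := by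
  unfold rootSt sgn
  split <;> rename_i h <;> simp [img, sgn, hφ, h]

theorem map_wey {M : Type*} [Group M] {Y : Fin 12 → M} {φ : St →* M}
    (hφ : ∀ r : Fin 12, φ (chevG2.stGen (ZMod 3) r.val 1) = img Y r) (s : Bool) :
    φ (wey rootSt s) = wey Y s := by
  cases s <;> simp only [wey, map_mul, map_rootSt hφ]

theorem wey_sq_st (s : Bool) : wey rootSt s * wey rootSt s ≠ 1 := by
  obtain ⟨ψ, hψ⟩ := exists_hom Model.yG_roots
  intro h
  have := congrArg (fun x => Model.mat (ψ x)) h
  simp only [map_mul, map_one, map_wey hψ, Model.mat_wey] at this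
  revert this
  cases s <;> decide +kernel

/-- The square of a Weyl element has centraliser of order `576`: then the group is `G₂(F)`. -/
theorem iso_of_roots {G : Type*} [Group G] [Finite G] {Y : Fin 12 → G} (R : Roots Y) (hY : Y 7 ≠ 1) (s : Bool)
    (hc : Nat.card ↥(centralizer ({wey Y s * wey Y s} : Set G)) = 576)
    {F : Type u} [Field F] [Fintype F] (hF : Fintype.card F = 3) : Nonempty (G ≃* ↥(Cfsg.Lie.G2 F)) := by
  obtain ⟨φ, hφ⟩ := exists_hom R
  have hne : φ ≠ 1 := fun h => hY (by rw [← map_rootSt hφ 7, h, MonoidHom.one_apply])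
  have hinj := injective_of_ne_one φ hne
  have hmem : wey Y s * wey Y s ∈ φ.range :=
    ⟨wey rootSt s * wey rootSt s, by rw [map_mul, map_wey hφ]⟩
  have h1 : wey Y s * wey Y s ≠ 1 := by
    rw [← map_wey hφ, ← map_mul]
    exact fun h => wey_sq_st s (hinj (h.trans (map_one φ).symm))
  have h2 : wey Y s * wey Y s * (wey Y s * wey Y s) = 1 := by
    rw [← pow_two, ← pow_two, ← pow_mul]
    exact R.wey_four s
  exact iso_g2 φ hne (range_eq_top φ hne _ hmem h1 h2 hc) hF

end Cfsg.Agent.G2Amalgam
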