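import Cfsg.Agent.G2Amalgam.Rel
import Cfsg.Agent.G2Amalgam.End.Main
import Cfsg.Agent.G2Amalgam.Model.Hom
import Cfsg.Agent.G2Amalgam.Model.Field
import Cfsg.Agent.G2Amalgam.Model.Bound

/-!
The Steinberg group over three elements is `G₂(3)` of Zorn's algebra.
-/

set_option autoImplicit false

namespace Cfsg.Agent.G2Amalgam

open Cfsg.Lie

universe u

/-- The Steinberg group over three elements is `G₂(F)` for `|F| = 3`. -/
theorem model {F : Type u} [Field F] [Fintype F] (hF : Fintype.card F = 3) :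
    Nonempty (St ≃* ↥(Cfsg.Lie.G2 F)) := by
  obtain ⟨φ, hφ⟩ := exists_hom Model.yG_roots
  have hne : φ ≠ 1 := fun h => Model.yG_ne (by
    have h7 := hφ 7
    rw [h, MonoidHom.one_apply] at h7
    simpa [img, sgn] using h7.symm)
  have : Finite St := st_finite
  have hinj := injective_of_ne_one φ hne
  have hle : Nat.card St ≤ Nat.card ↥(Lie.G2 (ZMod 3)) := Nat.card_le_card_of_injective φ hinj
  have hbij : Function.Bijective φ :=
    (Nat.bijective_iff_injective_and_card φ).2 ⟨hinj, le_antisymm hle (st_card ▸ Model.card_le)⟩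
  obtain ⟨e⟩ := Model.g2_equiv (FiniteField.ringEquivOfCardEq (K := F) (K' := ZMod 3) (hF.trans (ZMod.card 3).symm))
  exact ⟨(MulEquiv.ofBijective φ hbij).trans e.symm⟩

/-- A group that is the image of the Steinberg group is `G₂(F)`. -/
theorem iso_g2 {G : Type*} [Group G] [Finite G] (φ : St →* G) (hφ : φ ≠ 1) (hs : φ.range = ⊤)
    {F : Type u} [Field F] [Fintype F] (hF : Fintype.card F = 3) : Nonempty (G ≃* ↥(Cfsg.Lie.G2 F)) := by
  obtain ⟨e⟩ := model (F := F) hF
  exact ⟨(MulEquiv.ofBijective φ ⟨injective_of_ne_one φ hφ, MonoidHom.range_eq_top.1 hs⟩).symm.trans e⟩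

end Cfsg.Agent.G2Amalgam
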