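import Cfsg.Agent.G2Amalgam.Defs

/-!
From twelve root elements to a homomorphism from the Steinberg group: every relator is moved into the
positive part by the Weyl elements and collected there as `a^i b^j` times four commuting factors.
-/

set_option autoImplicit false
set_option maxRecDepth 100000

namespace Cfsg.Agent.G2Amalgam

open Cfsg.Lie

variable {G : Type*} [Group G] (Y : Fin 12 → G)

/-- A letter: a root and an exponent. -/
abbrev Ltr : Type := Fin 12 × ZMod 3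

/-- The value of a letter. -/
def ev1 (l : Ltr) : G := Y l.1 ^ l.2.val

/-- The value of a word. -/
def ev (w : List Ltr) : G := (w.map (ev1 Y)).prod

theorem ev_nil : ev Y [] = 1 := rfl

theorem ev_cons (l : Ltr) (w : List Ltr) : ev Y (l :: w) = ev1 Y l * ev Y w := List.prod_cons

theorem ev_append (v w : List Ltr) : ev Y (v ++ w) = ev Y v * ev Y w := by
  simp [ev]

/-- The image of a letter under a Weyl element. -/
def trL (s : Bool) (l : Ltr) : Ltr :=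
  (((nTab s).getD l.1.val (0, false)).1, if ((nTab s).getD l.1.val (0, false)).2 then -l.2 else l.2)

/-- The image of a word under a product of Weyl elements. -/
def tr : List Bool → List Ltr → List Ltr
  | [], w => w
  | s :: π, w => (tr π w).map (trL s)

/-- The product of Weyl elements. -/
def weys : List Bool → G
  | [] => 1
  | s :: π => wey Y s * weys π

/-- Exponents on the four commuting root elements. -/
abbrev R4 : Type := ZMod 3 × ZMod 3 × ZMod 3 × ZMod 3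

/-- Their product. -/
def rv (r : R4) : G := Y 8 ^ r.1.val * (Y 9 ^ r.2.1.val * (Y 10 ^ r.2.2.1.val * Y 11 ^ r.2.2.2.val))

/-- Conjugation by a power of `a`. -/
def sa (e : ZMod 3) (r : R4) : R4 := (r.1, r.2.1 - e * r.1, r.2.2.1, r.2.2.2)

/-- Conjugation by a power of `b`. -/
def sb (e : ZMod 3) (r : R4) : R4 := (r.1, r.2.1, r.2.2.1, r.2.2.2 - e * r.2.2.1)

/-- The correction moving a power of `a` to the left of a power of `b`. -/
def kap (e j : ZMod 3) : R4 :=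
  if e = 0 ∨ j = 0 then (0, 0, 0, 0)
  else if e = 1 then (if j = 1 then (1, 1, 2, 2) else (2, 2, 1, 2))
  else (if j = 1 then (2, 1, 1, 1) else (1, 2, 2, 1))

/-- A normal form. -/
abbrev NF : Type := ZMod 3 × ZMod 3 × R4

/-- Its value. -/
def nval (n : NF) : G := Y 7 ^ n.1.val * (Y 6 ^ n.2.1.val * rv Y n.2.2)

/-- Multiplication on the right by a letter. -/
def push (n : NF) (l : Ltr) : NF :=
  if l.1 = 7 then (n.1 + l.2, n.2.1, kap l.2 n.2.1 + sa l.2 n.2.2)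
  else if l.1 = 6 then (n.1, n.2.1 + l.2, sb l.2 n.2.2)
  else if l.1 = 8 then (n.1, n.2.1, n.2.2 + (l.2, 0, 0, 0))
  else if l.1 = 9 then (n.1, n.2.1, n.2.2 + (0, l.2, 0, 0))
  else if l.1 = 10 then (n.1, n.2.1, n.2.2 + (0, 0, l.2, 0))
  else (n.1, n.2.1, n.2.2 + (0, 0, 0, l.2))

/-- The normal form of a positive word. -/
def nf (w : List Ltr) : NF := w.foldl push (0, 0, (0, 0, 0, 0))

/-- All letters are positive. -/
def allPos (w : List Ltr) : Bool := w.all fun l => decide (6 ≤ l.1.val)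

/-- The transports tried. -/
def cands : List (List Bool) :=
  (List.range 12).flatMap fun n =>
    [(List.range n).map fun i => i % 2 == 0, (List.range n).map fun i => i % 2 == 1]

/-- The test of a relation. -/
def okRel (v w : List Ltr) : Bool :=
  cands.any fun π => allPos (tr π v) && allPos (tr π w) && decide (nf (tr π v) = nf (tr π w))

/-- The sign of a root. -/
def eps (r : ℕ) : ZMod 3 := if r < 6 then 2 else 1

/-- The letters of a Chevalley word. -/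
def lw (w : List (ℕ × ZMod 3)) : List Ltr :=
  w.map fun p => (Fin.ofNat 12 p.1, eps p.1 * p.2)

theorem comm_ok : ∀ r s : Fin 12, s ≠ r → s.val ≠ chevG2.neg r.val → ∀ t u : ZMod 3,
    okRel [(s, -(eps s.val * u)), (r, -(eps r.val * t)), (s, eps s.val * u), (r, eps r.val * t)]
      (lw (chevG2.commWord (ZMod 3) r.val s.val t u)) = true := by
  decide +kernel

theorem comm_lt : ∀ r s : Fin 12, ∀ p ∈ chevG2.commTerms r.val s.val, p.1 < 12 := by decide +kernel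

theorem hword_eq : ∀ (r : Fin 12) (t : ZMod 3), t ≠ 0 → chevG2.hWord r.val t =
    [(r.val, t), (11 - r.val, -t), (r.val, t)] ++ [(r.val, -1), (11 - r.val, 1), (r.val, -1)] := by
  decide +kernel

/-- The word of a Weyl element and of its inverse. -/
def weyW : Bool → Bool → List Ltr
  | true, false => [(7, 1), (4, 1), (7, 1)]
  | false, false => [(6, 1), (5, 1), (6, 1)]
  | true, true => [(7, 2), (4, 2), (7, 2)]
  | false, true => [(6, 2), (5, 2), (6, 2)]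

theorem weyl_ok : ∀ r : Fin 12, ∃ π ∈ cands, ∃ s b : Bool,
    tr π (lw [(r.val, 1), (11 - r.val, -1), (r.val, 1)]) = weyW s b := by
  decide +kernel

variable {Y} (h : Roots Y)

include h

theorem Y_mod (r : Fin 12) (k : ℕ) : Y r ^ k = Y r ^ (k % 3) := by
  conv_lhs => rw [← Nat.div_add_mod k 3, pow_add, pow_mul, h.cube, one_pow, one_mul]

theorem Y_add (r : Fin 12) (a b : ZMod 3) : Y r ^ (a + b).val = Y r ^ a.val * Y r ^ b.val := by
  rw [← pow_add, ZMod.val_add, Y_mod h r (a.val + b.val)]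

theorem Y_neg (r : Fin 12) (a : ZMod 3) : Y r ^ (-a).val = (Y r ^ a.val)⁻¹ := by
  refine eq_inv_of_mul_eq_one_left ?_
  rw [← Y_add h, neg_add_cancel, ZMod.val_zero, pow_zero]

theorem ev1_trL (s : Bool) (l : Ltr) : wey Y s * ev1 Y l * (wey Y s)⁻¹ = ev1 Y (trL s l) := by
  rw [ev1, ← conj_pow, h.conj, ev1, trL]
  cases ((nTab s).getD l.1.val (0, false)).2
  · rfl
  · simp [sgn, Y_neg h]

theorem ev_map (s : Bool) : ∀ w, wey Y s * ev Y w * (wey Y s)⁻¹ = ev Y (w.map (trL s))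
  | [] => by simp [ev]
  | l :: w => by
    rw [List.map_cons, ev_cons, ev_cons, ← ev_map s w, ← ev1_trL h s l]
    group

theorem ev_tr : ∀ (π : List Bool) (w : List Ltr), weys Y π * ev Y w * (weys Y π)⁻¹ = ev Y (tr π w)
  | [], w => by simp [weys, tr]
  | s :: π, w => by
    rw [tr, ← ev_map h s, ← ev_tr π w]
    show wey Y s * weys Y π * ev Y w * (wey Y s * weys Y π)⁻¹ = _
    group

theorem rv_add (r r' : R4) : rv Y (r + r') = rv Y r * rv Y r' := by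
  obtain ⟨p, q, u, v⟩ := r
  obtain ⟨p', q', u', v'⟩ := r'
  simp only [rv, Prod.mk_add_mk, Y_add h]
  have hc : ∀ (i j : Fin 12) (a b : ℕ), 8 ≤ i.val → 8 ≤ j.val → Commute (Y i ^ a) (Y j ^ b) :=
    fun i j a b hi hj => (h.abelian i j hi hj).pow_pow a b
  have e1 : Commute (Y 8 ^ p'.val) (Y 9 ^ q.val * (Y 10 ^ u.val * Y 11 ^ v.val)) :=
    (hc 8 9 _ _ (by decide) (by decide)).mul_right
      ((hc 8 10 _ _ (by decide) (by decide)).mul_right (hc 8 11 _ _ (by decide) (by decide)))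
  have e2 : Commute (Y 9 ^ q'.val) (Y 10 ^ u.val * Y 11 ^ v.val) :=
    (hc 9 10 _ _ (by decide) (by decide)).mul_right (hc 9 11 _ _ (by decide) (by decide))
  have e3 : Commute (Y 10 ^ u'.val) (Y 11 ^ v.val) := hc 10 11 _ _ (by decide) (by decide)
  have k : ∀ (x x' y y' : G), Commute x' y → x * x' * (y * y') = x * y * (x' * y') := fun x x' y y' e => by
    rw [mul_assoc, ← mul_assoc x', e.eq, mul_assoc, ← mul_assoc x]
  calc _ = Y 8 ^ p.val * Y 8 ^ p'.val * (Y 9 ^ q.val * Y 9 ^ q'.val *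
        (Y 10 ^ u.val * Y 10 ^ u'.val * (Y 11 ^ v.val * Y 11 ^ v'.val))) := rfl
    _ = Y 8 ^ p.val * Y 8 ^ p'.val * (Y 9 ^ q.val * Y 9 ^ q'.val *
        ((Y 10 ^ u.val * Y 11 ^ v.val) * (Y 10 ^ u'.val * Y 11 ^ v'.val))) := by rw [k _ _ _ _ e3]
    _ = Y 8 ^ p.val * Y 8 ^ p'.val * ((Y 9 ^ q.val * (Y 10 ^ u.val * Y 11 ^ v.val)) *
        (Y 9 ^ q'.val * (Y 10 ^ u'.val * Y 11 ^ v'.val))) := by rw [k _ _ _ _ e2]
    _ = _ := by rw [k _ _ _ _ e1]

theorem rv_zero : rv Y (0, 0, 0, 0) = 1 := by simp [rv, ZMod.val_zero]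

theorem a_comm {r : Fin 12} (hr : 9 ≤ r.val) (k m : ℕ) : Commute (Y 7 ^ k) (Y r ^ m) :=
  (h.c7 r hr).pow_pow k m

theorem rv_a_one (r : R4) : rv Y r * Y 7 = Y 7 * rv Y (sa 1 r) := by
  obtain ⟨p, q, u, v⟩ := r
  have e : (Y 7)⁻¹ * Y 8 * Y 7 = Y 8 * (Y 9)⁻¹ := by
    have h1 : Y 7 * Y 8 * (Y 7)⁻¹ = Y 9 * Y 8 := by rw [← h.c78]; group
    have h2 : Commute (Y 7) (Y 9)⁻¹ := (h.c7 9 (by decide)).inv_right
    calc (Y 7)⁻¹ * Y 8 * Y 7 = (Y 7)⁻¹ * ((Y 9)⁻¹ * (Y 7 * Y 8 * (Y 7)⁻¹)) * Y 7 := by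
          rw [h1]; group
      _ = (Y 7)⁻¹ * ((Y 9)⁻¹ * Y 7) * Y 8 := by group
      _ = (Y 9)⁻¹ * Y 8 := by rw [← h2.eq]; group
      _ = _ := ((h.abelian 9 8 (by decide) (by decide)).inv_left).eq
  have e' : (Y 7)⁻¹ * Y 8 ^ p.val * Y 7 = Y 8 ^ p.val * Y 9 ^ (-p).val := by
    rw [Y_neg h, ← inv_pow, ← ((h.abelian 8 9 (by decide) (by decide)).inv_right).mul_pow, ← e]
    have := (conj_pow (i := p.val) (a := (Y 7)⁻¹) (b := Y 8)).symm
    rwa [inv_inv] at this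
  have e'' : ∀ r : Fin 12, 9 ≤ r.val → ∀ k, (Y 7)⁻¹ * Y r ^ k * Y 7 = Y r ^ k := fun r hr k => by
    rw [mul_assoc, ← ((h.c7 r hr).pow_right k).eq, inv_mul_cancel_left]
  rw [← inv_mul_eq_iff_eq_mul]
  calc (Y 7)⁻¹ * (rv Y (p, q, u, v) * Y 7) = ((Y 7)⁻¹ * Y 8 ^ p.val * Y 7) *
        (((Y 7)⁻¹ * Y 9 ^ q.val * Y 7) * (((Y 7)⁻¹ * Y 10 ^ u.val * Y 7) *
          ((Y 7)⁻¹ * Y 11 ^ v.val * Y 7))) := by simp only [rv]; group
    _ = _ := by
      rw [e', e'' 9 (by decide), e'' 10 (by decide), e'' 11 (by decide), mul_assoc, ← mul_assoc (Y 9 ^ _),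
        ← Y_add h, rv, sa]
      simp [sub_eq_neg_add]

theorem rv_b_one (r : R4) : rv Y r * Y 6 = Y 6 * rv Y (sb 1 r) := by
  obtain ⟨p, q, u, v⟩ := r
  have e : (Y 6)⁻¹ * Y 10 * Y 6 = Y 10 * (Y 11)⁻¹ := by
    have h1 : Y 6 * Y 10 * (Y 6)⁻¹ = Y 11 * Y 10 := by rw [← h.c610]; group
    have h2 : Commute (Y 6) (Y 11)⁻¹ := (h.c6 11 (by decide)).inv_right
    calc (Y 6)⁻¹ * Y 10 * Y 6 = (Y 6)⁻¹ * ((Y 11)⁻¹ * (Y 6 * Y 10 * (Y 6)⁻¹)) * Y 6 := by
          rw [h1]; group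
      _ = (Y 6)⁻¹ * ((Y 11)⁻¹ * Y 6) * Y 10 := by group
      _ = (Y 11)⁻¹ * Y 10 := by rw [← h2.eq]; group
      _ = _ := ((h.abelian 11 10 (by decide) (by decide)).inv_left).eq
  have e' : (Y 6)⁻¹ * Y 10 ^ u.val * Y 6 = Y 10 ^ u.val * Y 11 ^ (-u).val := by
    rw [Y_neg h, ← inv_pow, ← ((h.abelian 10 11 (by decide) (by decide)).inv_right).mul_pow, ← e]
    have := (conj_pow (i := u.val) (a := (Y 6)⁻¹) (b := Y 10)).symm
    rwa [inv_inv] at this
  have e'' : ∀ r : Fin 12, r = 8 ∨ r = 9 ∨ r = 11 → ∀ k, (Y 6)⁻¹ * Y r ^ k * Y 6 = Y r ^ k := fun r hr k => by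
    rw [mul_assoc, ← ((h.c6 r hr).pow_right k).eq, inv_mul_cancel_left]
  rw [← inv_mul_eq_iff_eq_mul]
  calc (Y 6)⁻¹ * (rv Y (p, q, u, v) * Y 6) = ((Y 6)⁻¹ * Y 8 ^ p.val * Y 6) *
        (((Y 6)⁻¹ * Y 9 ^ q.val * Y 6) * (((Y 6)⁻¹ * Y 10 ^ u.val * Y 6) *
          ((Y 6)⁻¹ * Y 11 ^ v.val * Y 6))) := by simp only [rv]; group
    _ = _ := by
      rw [e', e'' 8 (by decide), e'' 9 (by decide), e'' 11 (by decide), mul_assoc (Y 10 ^ _), ← Y_add h, rv, sb]
      simp [sub_eq_neg_add]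

theorem rv_a (e : ℕ) : ∀ r : R4, rv Y r * Y 7 ^ e = Y 7 ^ e * rv Y (sa (e : ZMod 3) r) := by
  induction e with
  | zero => intro r; simp [sa]
  | succ e ih =>
    intro r
    rw [pow_succ, ← mul_assoc, ih, mul_assoc, rv_a_one h, ← mul_assoc]
    congr 2
    simp [sa]; ring

theorem rv_b (e : ℕ) : ∀ r : R4, rv Y r * Y 6 ^ e = Y 6 ^ e * rv Y (sb (e : ZMod 3) r) := by
  induction e with
  | zero => intro r; simp [sb]
  | succ e ih =>
    intro r
    rw [pow_succ, ← mul_assoc, ih, mul_assoc, rv_b_one h, ← mul_assoc]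
    congr 2
    simp [sb]; ring

theorem ba : Y 6 * Y 7 = Y 7 * Y 6 * rv Y (1, 1, 2, 2) := by
  have h1 : Y 7 * Y 6 * (Y 7)⁻¹ * (Y 6)⁻¹ = rv Y (2, 1, 1, 2) := by
    rw [h.c76, rv]
    have hi : ∀ r, (Y r)⁻¹ = Y r ^ (2 : ℕ) := fun r =>
      inv_eq_of_mul_eq_one_right (by rw [← pow_succ']; exact h.cube r)
    simp [hi, mul_assoc, show (2 : ZMod 3).val = 2 from rfl, show (1 : ZMod 3).val = 1 from rfl]
  have h2 : Y 7 * Y 6 = rv Y (2, 1, 1, 2) * Y 6 * Y 7 := by rw [← h1]; group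
  have h3 : rv Y (1, 2, 2, 1) * (Y 7 * Y 6) = Y 6 * Y 7 := by
    rw [h2, ← mul_assoc, ← mul_assoc, ← rv_add h,
      show ((1, 2, 2, 1) : R4) + (2, 1, 1, 2) = (0, 0, 0, 0) by decide, rv_zero h, one_mul]
  rw [← h3, ← mul_assoc, rv_a_one h, mul_assoc, rv_b_one h, ← mul_assoc]
  congr 2

theorem kap_spec (e j : ZMod 3) : Y 6 ^ j.val * Y 7 ^ e.val = Y 7 ^ e.val * Y 6 ^ j.val * rv Y (kap e j) := by
  have k1 : ∀ j : ℕ, Y 6 ^ j * Y 7 = Y 7 * Y 6 ^ j * rv Y (kap 1 (j : ZMod 3)) →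
      Y 6 ^ (j + 1) * Y 7 = Y 7 * Y 6 ^ (j + 1) * rv Y (sb (j : ZMod 3) (1, 1, 2, 2) + kap 1 (j : ZMod 3)) := by
    intro j hj
    rw [rv_add h, pow_succ', mul_assoc, hj, ← mul_assoc, ← mul_assoc, ba h, mul_assoc _ (rv Y _) (Y 6 ^ j),
      rv_b h, ← mul_assoc, mul_assoc (Y 7), mul_assoc _ (rv Y _) (rv Y _)]
  have b0 : Y 6 ^ 0 * Y 7 = Y 7 * Y 6 ^ 0 * rv Y (kap 1 ((0 : ℕ) : ZMod 3)) := by simp [kap, rv_zero h]
  have b1 : Y 6 ^ 1 * Y 7 = Y 7 * Y 6 ^ 1 * rv Y (kap 1 ((1 : ℕ) : ZMod 3)) := by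
    rw [k1 0 b0]; rfl
  have b2 : Y 6 ^ 2 * Y 7 = Y 7 * Y 6 ^ 2 * rv Y (kap 1 ((2 : ℕ) : ZMod 3)) := by
    rw [k1 1 b1]; rfl
  have a1 : ∀ j : ℕ, j < 3 → Y 6 ^ j * Y 7 = Y 7 * Y 6 ^ j * rv Y (kap 1 (j : ZMod 3)) := by
    intro j hj
    interval_cases j
    exacts [b0, b1, b2]
  have a2 : ∀ j : ℕ, j < 3 → Y 6 ^ j * Y 7 ^ 2 =
      Y 7 ^ 2 * Y 6 ^ j * rv Y (kap 1 (j : ZMod 3) + sa 1 (kap 1 (j : ZMod 3))) := by
    intro j hj
    rw [pow_two, ← mul_assoc, a1 j hj, mul_assoc _ (rv Y _) (Y 7), rv_a_one h, ← mul_assoc,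
      mul_assoc (Y 7) (Y 6 ^ j) (Y 7), a1 j hj, rv_add h]
    group
  rcases (by decide : ∀ x : ZMod 3, x = 0 ∨ x = 1 ∨ x = 2) e with rfl | rfl | rfl
  · rcases (by decide : ∀ x : ZMod 3, x = 0 ∨ x = 1 ∨ x = 2) j with rfl | rfl | rfl <;>
      simp [ZMod.val_zero, kap, rv_zero h]
  · have := a1 j.val j.val_lt
    rwa [ZMod.natCast_zmod_val, ← pow_one (Y 7)] at this
  · have := a2 j.val j.val_lt
    rw [ZMod.natCast_zmod_val] at this
    rw [show (2 : ZMod 3).val = 2 from rfl, this,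
      (by decide : ∀ x : ZMod 3, kap 1 x + sa 1 (kap 1 x) = kap 2 x) j]

theorem nval_push (n : NF) (l : Ltr) (hl : 6 ≤ l.1.val) : nval Y (push n l) = nval Y n * ev1 Y l := by
  obtain ⟨r, e⟩ := l
  obtain ⟨i, j, ρ⟩ := n
  have hR : ∀ d : R4, rv Y d = ev1 Y (r, e) → nval Y (i, j, ρ + d) = nval Y (i, j, ρ) * ev1 Y (r, e) := by
    intro d hd
    simp only [nval, rv_add h, hd, mul_assoc]
  have hr : r = 6 ∨ r = 7 ∨ r = 8 ∨ r = 9 ∨ r = 10 ∨ r = 11 := by
    have : ∀ r : Fin 12, 6 ≤ r.val → r = 6 ∨ r = 7 ∨ r = 8 ∨ r = 9 ∨ r = 10 ∨ r = 11 := by decide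
    exact this r hl
  rcases hr with rfl | rfl | rfl | rfl | rfl | rfl
  · show nval Y (i, j + e, sb e ρ) = nval Y (i, j, ρ) * Y 6 ^ e.val
    simp only [nval, Y_add h, mul_assoc]
    rw [rv_b h, ZMod.natCast_zmod_val]
  · show nval Y (i + e, j, kap e j + sa e ρ) = nval Y (i, j, ρ) * Y 7 ^ e.val
    simp only [nval, Y_add h, mul_assoc]
    rw [rv_a h, ZMod.natCast_zmod_val, ← mul_assoc (Y 6 ^ j.val) (Y 7 ^ e.val), kap_spec h, rv_add h]
    simp only [mul_assoc]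
  · exact hR (e, 0, 0, 0) (by simp [rv, ev1, ZMod.val_zero])
  · exact hR (0, e, 0, 0) (by simp [rv, ev1, ZMod.val_zero])
  · exact hR (0, 0, e, 0) (by simp [rv, ev1, ZMod.val_zero])
  · exact hR (0, 0, 0, e) (by simp [rv, ev1, ZMod.val_zero])

theorem nval_nf (w : List Ltr) (hw : allPos w = true) : nval Y (nf w) = ev Y w := by
  suffices ∀ (w : List Ltr) (n : NF), allPos w = true → nval Y (w.foldl push n) = nval Y n * ev Y w by
    rw [nf, this w _ hw]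
    simp [nval, rv_zero h, ZMod.val_zero]
  intro w
  induction w with
  | nil => intro n _; simp [ev]
  | cons l w ih =>
    intro n hw
    simp only [allPos, List.all_cons, Bool.and_eq_true, decide_eq_true_eq] at hw
    rw [List.foldl_cons, ih _ hw.2, nval_push h n l hw.1, ev_cons, mul_assoc]

theorem eq_of_ok {v w : List Ltr} (hok : okRel v w = true) : ev Y v = ev Y w := by
  obtain ⟨π, -, hp⟩ := List.any_eq_true.1 hok
  simp only [Bool.and_eq_true, decide_eq_true_eq] at hp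
  have e : weys Y π * ev Y v * (weys Y π)⁻¹ = weys Y π * ev Y w * (weys Y π)⁻¹ := by
    rw [ev_tr h, ev_tr h, ← nval_nf h _ hp.1.1, ← nval_nf h _ hp.1.2, hp.2]
  exact mul_left_cancel (mul_right_cancel e)

/-- The Weyl element of a root has fourth power one. -/
theorem n_four (r : Fin 12) : ev Y (lw [(r.val, 1), (11 - r.val, -1), (r.val, 1)]) ^ 4 = 1 := by
  obtain ⟨π, -, s, b, hb⟩ := weyl_ok r
  have e := ev_tr h π (lw [(r.val, 1), (11 - r.val, -1), (r.val, 1)])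
  rw [hb] at e
  have h4 : ev Y (weyW s b) ^ 4 = 1 := by
    have hi : ∀ r, Y r ^ 2 = (Y r)⁻¹ := fun r =>
      eq_inv_of_mul_eq_one_left (by rw [← pow_succ]; exact h.cube r)
    cases s <;> cases b
    · simpa [weyW, ev, ev1, wey, mul_assoc, show (1 : ZMod 3).val = 1 from rfl] using h.wey_four false
    · have : ev Y (weyW false true) = (wey Y false)⁻¹ := by
        simp [weyW, ev, ev1, wey, show (2 : ZMod 3).val = 2 from rfl, hi, mul_assoc]
      rw [this, inv_pow, h.wey_four, inv_one]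
    · simpa [weyW, ev, ev1, wey, mul_assoc, show (1 : ZMod 3).val = 1 from rfl] using h.wey_four true
    · have : ev Y (weyW true true) = (wey Y true)⁻¹ := by
        simp [weyW, ev, ev1, wey, show (2 : ZMod 3).val = 2 from rfl, hi, mul_assoc]
      rw [this, inv_pow, h.wey_four, inv_one]
  rw [← e, conj_pow] at h4
  exact conj_eq_one_iff.1 h4

/-- The image of a generator of the free group. -/
theorem exists_hom : ∃ φ : St →* G, ∀ r : Fin 12, φ (chevG2.stGen (ZMod 3) r.val 1) = img Y r := by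
  let f : Fin chevG2.nroots × ZMod 3 → G := fun z => ev1 Y ((⟨z.1.val, z.1.2⟩ : Fin 12), eps z.1.val * z.2)
  have hX : ∀ (r : ℕ) (hr : r < 12) (t : ZMod 3),
      FreeGroup.lift f (chevG2.stX r t) = ev Y (lw [(r, t)]) := by
    intro r hr t
    rw [ChevalleyDatum.stX, dif_pos (show r < chevG2.nroots from hr), FreeGroup.lift_apply_of]
    simp [f, lw, ev, Fin.ofNat, Nat.mod_eq_of_lt hr]
  have hW : ∀ w : List (ℕ × ZMod 3), (∀ p ∈ w, p.1 < 12) →
      FreeGroup.lift f (chevG2.stWord w) = ev Y (lw w) := by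
    intro w
    induction w with
    | nil => intro _; simp [ChevalleyDatum.stWord, lw, ev]
    | cons p w ih =>
      intro hp
      rw [ChevalleyDatum.stWord, List.map_cons, List.prod_cons, map_mul, ← ChevalleyDatum.stWord,
        ih fun q hq => hp q (List.mem_cons_of_mem _ hq), hX _ (hp p List.mem_cons_self), ← ev_append]
      rfl
  have hf : ∀ (r : Fin 12) (t : ZMod 3), FreeGroup.lift f (chevG2.stX r.val t) = ev1 Y (r, eps r.val * t) := by
    intro r t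
    rw [hX _ r.2]
    simp [lw, ev, Fin.ofNat, Nat.mod_eq_of_lt r.2]
  have hinv : ∀ (r : Fin 12) (t : ZMod 3), (ev1 Y (r, t))⁻¹ = ev1 Y (r, -t) := fun r t => (Y_neg h r t).symm
  have hr : ∀ g ∈ chevG2.steinbergRels (ZMod 3), FreeGroup.lift f g = 1 := by
    rintro g ((⟨r, t₁, t₂, hr, rfl⟩ | ⟨r, s, t, u, hr, hs, h1, h2, rfl⟩) | ⟨r, t₁, t₂, hr, ht₁, ht₂, rfl⟩)
    · rw [map_mul, map_mul, map_inv, mul_inv_eq_one, hf ⟨r, hr⟩, hf ⟨r, hr⟩, hf ⟨r, hr⟩, mul_add]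
      exact (Y_add h ⟨r, hr⟩ _ _).symm
    · have hs' : (⟨s, hs⟩ : Fin 12) ≠ ⟨r, hr⟩ := fun e => h1 (congrArg Fin.val e)
      have hlt : ∀ p ∈ chevG2.commWord (ZMod 3) r s t u, p.1 < 12 := by
        intro p hp
        obtain ⟨c, hc, rfl⟩ := List.mem_map.1 hp
        exact comm_lt ⟨r, hr⟩ ⟨s, hs⟩ c hc
      simp only [map_mul, map_inv]
      rw [mul_inv_eq_one, hf ⟨r, hr⟩, hf ⟨s, hs⟩, hW _ hlt, hinv, hinv,
        ← eq_of_ok h (comm_ok ⟨r, hr⟩ ⟨s, hs⟩ hs' h2 t u)]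
      simp [ev, mul_assoc]
    · let x : Fin 12 := ⟨r, hr⟩
      let N : ZMod 3 → G := fun t => ev Y (lw [(r, t), (11 - r, -t), (r, t)])
      have hH : ∀ t : ZMod 3, t ≠ 0 → FreeGroup.lift f (chevG2.stH r t) = N t * N (-1) := by
        intro t ht
        rw [ChevalleyDatum.stH, hword_eq x t ht, hW]
        · show ev Y (lw ([(r, t), (11 - r, -t), (r, t)] ++ [(r, -1), (11 - r, 1), (r, -1)])) = _
          rw [lw, List.map_append, ev_append, ← lw, ← lw]
          simp [N]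
        · intro p hp
          simp only [List.cons_append, List.nil_append, List.mem_cons, List.not_mem_nil, or_false] at hp
          have hr' : r < 12 := hr
          rcases hp with rfl | rfl | rfl | rfl | rfl | rfl <;> simp only [x] <;> omega
      have hN : N (-1) = (N 1)⁻¹ := by
        simp [N, lw, ev, mul_inv_rev, hinv, mul_assoc]
      have h4 : N 1 ^ 4 = 1 := n_four h x
      rw [map_mul, map_mul, map_inv, mul_inv_eq_one, hH _ ht₁, hH _ ht₂, hH _ (mul_ne_zero ht₁ ht₂), hN]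
      rcases (by decide : ∀ x : ZMod 3, x ≠ 0 → x = 1 ∨ x = -1) t₁ ht₁ with rfl | rfl <;>
        rcases (by decide : ∀ x : ZMod 3, x ≠ 0 → x = 1 ∨ x = -1) t₂ ht₂ with rfl | rfl
      · simp
      · simp
      · simp
      · rw [neg_one_mul, neg_neg, hN, mul_inv_cancel,
          show (N 1)⁻¹ * (N 1)⁻¹ * ((N 1)⁻¹ * (N 1)⁻¹) = (N 1 ^ 4)⁻¹ by group, h4, inv_one]
  refine ⟨PresentedGroup.toGroup hr, fun r => ?_⟩
  show FreeGroup.lift f (chevG2.stX r.val 1) = _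
  rw [hf, mul_one, img, eps, ev1]
  by_cases h6 : r.val < 6
  · simp only [h6, ↓reduceIte, decide_true, sgn]
    exact eq_inv_of_mul_eq_one_left (by rw [← pow_succ]; exact h.cube r)
  · simp [h6, sgn, ZMod.val_one]

end Cfsg.Agent.G2Amalgam
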